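import Mathlib.Algebra.Group.Hom.Defs
import Mathlib.Algebra.BigOperators.Group.List.Basic
import Mathlib.Data.List.Basic
import Mathlib.Data.List.GetD
import Mathlib.Data.List.TakeDrop

/-!
Collection from the left in a power-commutator presentation whose rules hold up to central elements.

A presentation on letters below `n` has for every letter `i` a word for the `p`th power of `i` and for every
`i < j` a word `w` with `j i = i w`. If the rules only hold up to central elements `τ`, collecting a word
gives its normal form and the list of the central elements that were used.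
-/

set_option autoImplicit false

namespace Cfsg.Agent.Lib.PcMult

/-- Evaluate a natural number before it is shared. -/
def frc {α : Type} (a : ℕ) (k : ℕ → α) : α :=
  match a with
  | 0 => k 0
  | m + 1 => k (m + 1)

theorem frc_eq {α : Type} (a : ℕ) (k : ℕ → α) : frc a k = k a := by cases a <;> rfl

/-- Evaluate a list of natural numbers before it is shared. -/
def frcL {α : Type} : List ℕ → (List ℕ → α) → α
  | [], k => k []
  | a :: as, k => frc a fun a => frcL as fun as => k (a :: as)

theorem frcL_eq {α : Type} : ∀ (l : List ℕ) (k : List ℕ → α), frcL l k = k l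
  | [], _ => rfl
  | a :: as, k => by rw [frcL, frc_eq, frcL_eq as]

/-- The word of an exponent vector whose first letter is `k`. -/
def toWord : ℕ → List ℕ → List ℕ
  | _, [] => []
  | k, c :: cs => List.replicate c k ++ toWord (k + 1) cs

theorem toWord_append : ∀ (k : ℕ) (a b : List ℕ), toWord k (a ++ b) = toWord k a ++ toWord (k + a.length) b
  | k, [], b => by simp [toWord]
  | k, c :: cs, b => by
    simp [toWord, toWord_append (k + 1) cs b, Nat.add_assoc, Nat.add_comm 1]

theorem toWord_zeros : ∀ (k m : ℕ), toWord k (List.replicate m 0) = []
  | _, 0 => rfl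
  | k, m + 1 => by simp [List.replicate_succ, toWord, toWord_zeros (k + 1) m]

theorem mem_toWord : ∀ {k : ℕ} {v : List ℕ} {j : ℕ}, j ∈ toWord k v → k ≤ j ∧ j < k + v.length
  | _, [], _, h => by simp [toWord] at h
  | k, c :: cs, j, h => by
    rcases List.mem_append.1 h with h | h
    · rw [List.eq_of_mem_replicate h]
      simp
    · have := mem_toWord h
      simp only [List.length_cons]
      omega

/-- A power-commutator presentation: exponent vectors for the powers, words for the conjugates. -/
structure Pres where
  p : ℕ
  n : ℕ
  pw : List (List ℕ)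
  cj : List (List (List ℕ))

/-- The word for the `p`th power of a letter. -/
def Pres.pwWord (R : Pres) (i : ℕ) : List ℕ := toWord 0 (R.pw.getD i [])

/-- The word `w` with `j i = i w`. -/
def Pres.cjWord (R : Pres) (i j : ℕ) : List ℕ := toWord 0 ((R.cj.getD i []).getD j [])

/-- The index of the central element belonging to a rule; powers sit on the diagonal. -/
def Pres.idx (R : Pres) (i j : ℕ) : ℕ := i * R.n + j

/-- Collection from the left: exponents collected so far, letters still to be appended, rules used. -/
def Pres.collect (R : Pres) : ℕ → List ℕ → List ℕ → List ℕ → Option (List ℕ × List ℕ)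
  | 0, _, _, _ => none
  | _ + 1, v, [], f => some (v, f)
  | fuel + 1, v, i :: rest, f =>
    frc i fun i => frcL v fun v => frcL (toWord (i + 1) (v.drop (i + 1))) fun post =>
    frc (v.getD i 0) fun vi =>
      if i < R.n then
        if vi + 1 < R.p then
          R.collect fuel (v.take i ++ (vi + 1) :: List.replicate (R.n - i - 1) 0)
            (post.flatMap (R.cjWord i) ++ rest) (post.map (R.idx i) ++ f)
        else if vi + 1 = R.p then
          R.collect fuel (v.take i ++ 0 :: List.replicate (R.n - i - 1) 0)
            (R.pwWord i ++ (post.flatMap (R.cjWord i) ++ rest)) (R.idx i i :: (post.map (R.idx i) ++ f))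
        else none
      else none

/-- Collection of a word. -/
def Pres.collectW (R : Pres) (w : List ℕ) : Option (List ℕ × List ℕ) :=
  R.collect (1 <<< 20) (List.replicate R.n 0) w []

section Sound

variable {Γ K : Type*} [Group Γ] [CommGroup K] (ι : K →* Γ) (hι : ∀ z y, Commute (ι z) y)
  (X : ℕ → Γ) (τ : ℕ → K)

/-- The value of a word. -/
def W (l : List ℕ) : Γ := (l.map X).prod

/-- The product of the central elements in a list. -/
def U (l : List ℕ) : K := (l.map τ).prod

theorem W_append (a b : List ℕ) : W X (a ++ b) = W X a * W X b := by simp [W]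

theorem W_cons (a : ℕ) (b : List ℕ) : W X (a :: b) = X a * W X b := by simp [W]

theorem W_nil : W X [] = 1 := rfl

theorem W_replicate (c k : ℕ) : W X (List.replicate c k) = X k ^ c := by simp [W]

theorem U_append (a b : List ℕ) : U τ (a ++ b) = U τ a * U τ b := by simp [U]

theorem U_cons (a : ℕ) (b : List ℕ) : U τ (a :: b) = τ a * U τ b := by simp [U]

variable (R : Pres)

/-- The rules hold up to the central elements. -/
structure Holds : Prop where
  pow : ∀ i < R.n, X i ^ R.p = W X (R.pwWord i) * ι (τ (R.idx i i))
  conj : ∀ i j, i < j → j < R.n → X j * X i = X i * W X (R.cjWord i j) * ι (τ (R.idx i j))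

variable {ι X τ R}
include hι

theorem push (h : Holds ι X τ R) (i : ℕ) : ∀ l : List ℕ, (∀ j ∈ l, i < j ∧ j < R.n) →
    W X l * X i = X i * W X (l.flatMap (R.cjWord i)) * ι (U τ (l.map (R.idx i)))
  | [], _ => by simp [W, U]
  | a :: l, hl => by
    obtain ⟨h1, h2⟩ := hl a (by simp)
    rw [W_cons, mul_assoc, push h i l fun j hj => hl j (List.mem_cons_of_mem _ hj),
      ← mul_assoc (X a), ← mul_assoc (X a), h.conj i a h1 h2, List.flatMap_cons, W_append, List.map_cons,
      U_cons, map_mul]
    simp only [mul_assoc, (hι (τ (R.idx i a)) (W X (l.flatMap (R.cjWord i)))).left_comm]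

theorem collect_spec (h : Holds ι X τ R) : ∀ (fuel : ℕ) (v st f v' f' : List ℕ), v.length = R.n →
    R.collect fuel v st f = some (v', f') →
    W X (toWord 0 v) * W X st * ι (U τ f) = W X (toWord 0 v') * ι (U τ f') ∧ v'.length = R.n
  | 0, _, _, _, _, _, _, e => by simp [Pres.collect] at e
  | fuel + 1, v, [], f, v', f', hv, e => by
    simp only [Pres.collect, Option.some.injEq, Prod.mk.injEq] at e
    obtain ⟨rfl, rfl⟩ := e
    exact ⟨by rw [W_nil, mul_one], hv⟩
  | fuel + 1, v, i :: rest, f, v', f', hv, e => by
    simp only [Pres.collect, frc_eq, frcL_eq] at e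
    set post := toWord (i + 1) (v.drop (i + 1)) with hpost
    set vi := v.getD i 0 with hvi
    split_ifs at e with hi h1 h2
    all_goals
      have hsplit : v = v.take i ++ vi :: v.drop (i + 1) := by
        have hiv : i < v.length := hv ▸ hi
        rw [hvi, List.getD_eq_getElem _ _ hiv, List.cons_getElem_drop_succ, List.take_append_drop]
      have hlen : (v.take i).length = i := by rw [List.length_take]; omega
      have hw : W X (toWord 0 v) = W X (toWord 0 (v.take i)) * X i ^ vi * W X post := by
        conv_lhs => rw [hsplit]
        rw [toWord_append, hlen, toWord, W_append, W_append, W_replicate, Nat.zero_add, mul_assoc]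
      have hnew : ∀ a : ℕ, W X (toWord 0 (v.take i ++ a :: List.replicate (R.n - i - 1) 0)) =
          W X (toWord 0 (v.take i)) * X i ^ a := fun a => by
        rw [toWord_append, hlen, toWord, toWord_zeros, List.append_nil, W_append, W_replicate, Nat.zero_add]
      have hpush := push hι h i post fun j hj => by
        have := mem_toWord hj
        rw [List.length_drop] at this
        omega
      have hl' : ∀ a : ℕ, (v.take i ++ a :: List.replicate (R.n - i - 1) 0).length = R.n := fun a => by
        rw [List.length_append, hlen, List.length_cons, List.length_replicate]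
        omega
      obtain ⟨e1, e2⟩ := collect_spec h fuel _ _ _ v' f' (hl' _) e
      refine ⟨?_, e2⟩
      rw [← e1, hw, hnew, W_cons]
    · rw [W_append, U_append, map_mul, pow_succ]
      simp only [mul_assoc]
      rw [← mul_assoc (W X post), hpush]
      simp only [mul_assoc]
      rw [(hι (U τ (post.map (R.idx i))) (W X rest)).left_comm]
    · rw [W_append, W_append, U_cons, U_append, map_mul, map_mul, pow_zero, mul_one]
      simp only [mul_assoc]
      rw [← mul_assoc (W X post), hpush]
      simp only [mul_assoc]
      rw [← mul_assoc (X i ^ vi), ← pow_succ, h2, h.pow i hi]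
      simp only [mul_assoc]
      rw [(hι (τ (R.idx i i)) (W X (post.flatMap (R.cjWord i)))).left_comm,
        (hι (U τ (post.map (R.idx i))) (W X rest)).left_comm,
        (hι (τ (R.idx i i)) (W X rest)).left_comm]

theorem collectW_spec (h : Holds ι X τ R) {w v' f' : List ℕ} (e : R.collectW w = some (v', f')) :
    W X w = W X (toWord 0 v') * ι (U τ f') := by
  have := (collect_spec hι h _ _ w [] v' f' (by simp) e).1
  rwa [toWord_zeros, W_nil, one_mul, U, List.map_nil, List.prod_nil, map_one, mul_one] at this

end Sound

end Cfsg.Agent.Lib.PcMult
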