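import Cfsg.Agent.Lib.Transfer.SplitLifts

/-!
The multiplier is trivial if, for every prime, Sylow preimages split in the central extensions whose
kernel has exponent that prime; and a way to see that an element is outside a closure.
-/

set_option autoImplicit false
set_option linter.style.haveILetI false

namespace Cfsg.Agent.Lib.PcMult

open Cfsg.Agent Cfsg.Agent.Transfer.SplitLifts
open scoped commutatorElement

theorem trivial_of_exp {G : Type} [Group G] [Finite G]
    (h : ∀ (p : ℕ) [Fact p.Prime], p ^ 2 ∣ Nat.card G → ∀ (Γ : Type) [Group Γ] [Finite Γ] (σ : Γ →* G),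
      σ.ker ≤ Subgroup.center Γ → Function.Surjective σ → (∀ z, σ z = 1 → z ^ p = 1) → ∀ P : Sylow p Γ,
      ⁅(P : Subgroup Γ), (P : Subgroup Γ)⁆ ⊓ σ.ker = ⊥) :
    Cfsg.HasCyclicSchurMultiplier G 1 := by
  classical
  refine GStructB.StemExt.hasCyclicSchurMultiplier_one fun Γ _ _ σ hs => ?_
  obtain ⟨hsur, hc, hd⟩ := hs
  by_contra hne
  have h1 : Nat.card σ.ker ≠ 1 := fun h => hne (Subgroup.eq_bot_of_card_eq _ h)
  obtain ⟨p, hp, hpd⟩ := Nat.exists_prime_and_dvd h1
  haveI := Fact.mk hp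
  by_cases hpG : p ^ 2 ∣ Nat.card G
  swap
  · exact Suzuki.Multiplier.no_prime_in_kernel σ hc hd default (cyclic_criterion hc hsur hpG default) hpd
  let N : Subgroup Γ :=
    { carrier := {n | ∃ k, σ k = 1 ∧ n = k ^ p}
      one_mem' := ⟨1, map_one σ, by simp⟩
      mul_mem' := by
        rintro _ _ ⟨k, hk, rfl⟩ ⟨l, hl, rfl⟩
        exact ⟨k * l, by rw [map_mul, hk, hl, one_mul], ((central hc hl k).mul_pow p).symm⟩
      inv_mem' := by
        rintro _ ⟨k, hk, rfl⟩
        exact ⟨k⁻¹, by rw [map_inv, hk, inv_one], (inv_pow k p).symm⟩ }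
  haveI : N.Normal := ⟨by
    rintro _ ⟨k, hk, rfl⟩ g
    exact ⟨k, hk, by rw [((central hc hk g).pow_right p).eq, mul_inv_cancel_right]⟩⟩
  have hNker : N ≤ σ.ker := by
    rintro _ ⟨k, hk, rfl⟩
    rw [MonoidHom.mem_ker, map_pow, hk, one_pow]
  let τ : Γ ⧸ N →* G := QuotientGroup.lift N σ hNker
  have hτ : Function.Surjective τ := fun g => by
    obtain ⟨x, rfl⟩ := hsur g; exact ⟨(x : Γ ⧸ N), rfl⟩
  have hmapker : ∀ q : Γ ⧸ N, τ q = 1 → ∃ k, σ k = 1 ∧ (k : Γ ⧸ N) = q := by
    intro q hq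
    obtain ⟨k, rfl⟩ := QuotientGroup.mk_surjective q
    exact ⟨k, hq, rfl⟩
  have hτc : τ.ker ≤ Subgroup.center (Γ ⧸ N) := by
    intro q hq
    obtain ⟨k, hk, rfl⟩ := hmapker q hq
    rw [Subgroup.mem_center_iff]
    intro g
    obtain ⟨g, rfl⟩ := QuotientGroup.mk_surjective g
    rw [← QuotientGroup.mk_mul, ← QuotientGroup.mk_mul, (central hc hk g).eq]
  have hτd : τ.ker ≤ commutator (Γ ⧸ N) := by
    intro q hq
    obtain ⟨k, hk, rfl⟩ := hmapker q hq
    have h := Subgroup.mem_map_of_mem (QuotientGroup.mk' N) (hd hk)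
    rw [commutator_def, Subgroup.map_commutator, Subgroup.map_top_of_surjective _
      (QuotientGroup.mk'_surjective N)] at h
    exact h
  have hτe : ∀ q : Γ ⧸ N, τ q = 1 → q ^ p = 1 := by
    intro q hq
    obtain ⟨k, hk, rfl⟩ := hmapker q hq
    rw [← QuotientGroup.mk_pow, QuotientGroup.eq_one_iff]
    exact ⟨k, hk, rfl⟩
  let P : Sylow p (Γ ⧸ N) := default
  have h := Suzuki.Multiplier.no_prime_in_kernel τ hτc hτd P (h p hpG (Γ ⧸ N) τ hτc hτ hτe P)
  obtain ⟨⟨z, hz⟩, hzo⟩ := exists_prime_orderOf_dvd_card' (G := σ.ker) p hpd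
  rw [Subgroup.orderOf_mk] at hzo
  have hsq : ¬ Function.Surjective (fun k : σ.ker => k ^ p) := by
    intro hs'
    have hinj := Finite.injective_iff_surjective.2 hs'
    have he : (fun k : σ.ker => k ^ p) ⟨z, hz⟩ = (fun k : σ.ker => k ^ p) 1 :=
      Subtype.ext (by simpa using (hzo ▸ pow_orderOf_eq_one z : z ^ p = 1))
    have := congrArg Subtype.val (hinj he)
    simp only [OneMemClass.coe_one] at this
    rw [this, orderOf_one] at hzo
    exact hp.one_lt.ne hzo
  apply hsq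
  intro k
  by_contra hk
  have hkq : (k : Γ ⧸ N) ∈ τ.ker := by rw [MonoidHom.mem_ker]; exact k.2
  have hkne : (⟨_, hkq⟩ : τ.ker) ≠ 1 := by
    intro e
    obtain ⟨l, hl, el⟩ := (QuotientGroup.eq_one_iff (k : Γ)).1 (congrArg Subtype.val e)
    exact hk ⟨⟨l, hl⟩, Subtype.ext el.symm⟩
  apply h
  have ho : orderOf (⟨_, hkq⟩ : τ.ker) = p :=
    orderOf_eq_prime (Subtype.ext (by simpa using hτe _ hkq)) hkne
  exact ho ▸ orderOf_dvd_natCard _

/-- An element moving `b` out of a set closed under `S` is not in the closure of `S`. -/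
theorem not_mem_closure {G : Type*} [Group G] [Finite G] {X : Type*} (act : G → X → X)
    (h1 : ∀ x, act 1 x = x) (hmul : ∀ a b x, act (a * b) x = act a (act b x)) (O : List X) {b : X} (hb : b ∈ O)
    {S : Set G} (hS : ∀ s ∈ S, ∀ x ∈ O, act s x ∈ O) {a : G} (ha : act a b ∉ O) :
    a ∉ Subgroup.closure S := by
  intro h
  let M : Submonoid G :=
    { carrier := {s | ∀ x ∈ O, act s x ∈ O}
      one_mem' := fun x hx => by rwa [h1]
      mul_mem' := fun {s t} hs ht x hx => by rw [hmul]; exact hs _ (ht x hx) }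
  rw [← SetLike.mem_coe, ← Subgroup.coe_toSubmonoid, Subgroup.closure_toSubmonoid_of_finite] at h
  exact ha ((Submonoid.closure_le (S := M)).2 hS h b hb)

end Cfsg.Agent.Lib.PcMult
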