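import Mathlib.Algebra.Group.Defs
import Mathlib.Algebra.Group.Basic
import Mathlib.Algebra.BigOperators.Group.List.Basic
import Mathlib.Data.Nat.Bitwise
import Cfsg.Agent.Lib.PcMult.Collect

/-!
Linear forms in the central elements of a power-commutator presentation: exponent vectors modulo `p`, and
for `p = 2` bit sets.
-/

set_option autoImplicit false

namespace Cfsg.Agent.Lib.PcMult

/-- Operations on linear forms. -/
structure Ops (F : Type) where
  zero : F
  add : F → F → F
  unit : ℕ → F
  isZero : F → Bool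
  hold : F → (F → Bool) → Bool

/-- The operations compute in every commutative group of exponent `p`. -/
structure Ops.Valid {F : Type} (O : Ops F) (p : ℕ) {K : Type*} [CommGroup K] (τ : ℕ → K) (ev : F → K) : Prop where
  ev_zero : ev O.zero = 1
  ev_add : ∀ a b, ev (O.add a b) = ev a * ev b
  ev_unit : ∀ v, ev (O.unit v) = τ v
  ev_isZero : ∀ a, O.isZero a = true → ev a = 1
  hold_eq : ∀ a k, O.hold a k = k a

section Derived

variable {F : Type}

/-- The form of a list of variables. -/
def Ops.tot (O : Ops F) (l : List ℕ) : F := l.foldr (fun v a => O.add (O.unit v) a) O.zero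

/-- A multiple of a form. -/
def Ops.smul (O : Ops F) : ℕ → F → F
  | 0, _ => O.zero
  | k + 1, a => O.add a (O.smul k a)

/-- A combination of forms. -/
def Ops.comb (O : Ops F) : List ℕ → List F → F
  | [], _ => O.zero
  | _, [] => O.zero
  | 0 :: cs, _ :: fs => O.comb cs fs
  | (c + 1) :: cs, f :: fs => O.add (O.smul (c + 1) f) (O.comb cs fs)

/-- Evaluate forms before they are shared. -/
def Ops.holdAll (O : Ops F) : List F → (List F → Bool) → Bool
  | [], k => k []
  | f :: fs, k => O.hold f fun f => O.holdAll fs fun fs => k (f :: fs)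

variable {O : Ops F} {p : ℕ} {K : Type*} [CommGroup K] {τ : ℕ → K} {ev : F → K}

theorem Ops.Valid.ev_tot (hO : O.Valid p τ ev) : ∀ l : List ℕ, ev (O.tot l) = U τ l
  | [] => hO.ev_zero
  | v :: l => by
    rw [U_cons, ← hO.ev_tot l, ← hO.ev_unit, ← hO.ev_add]
    rfl

theorem Ops.Valid.ev_smul (hO : O.Valid p τ ev) : ∀ (k : ℕ) (a : F), ev (O.smul k a) = ev a ^ k
  | 0, a => by rw [Ops.smul, hO.ev_zero, pow_zero]
  | k + 1, a => by rw [Ops.smul, hO.ev_add, hO.ev_smul k a, pow_succ']

theorem Ops.Valid.ev_comb (hO : O.Valid p τ ev) : ∀ (cs : List ℕ) (fs : List F), (∀ f ∈ fs, ev f = 1) → ev (O.comb cs fs) = 1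
  | [], _, _ => by rw [Ops.comb]; exact hO.ev_zero
  | _ :: _, [], _ => by rw [Ops.comb]; exacts [hO.ev_zero, by simp]
  | 0 :: cs, f :: fs, h => by
    rw [Ops.comb]
    exact hO.ev_comb cs fs fun g hg => h g (List.mem_cons_of_mem _ hg)
  | (c + 1) :: cs, f :: fs, h => by
    rw [Ops.comb, hO.ev_add, hO.ev_smul, h f (List.mem_cons_self ..), one_pow, one_mul]
    exact hO.ev_comb cs fs fun g hg => h g (List.mem_cons_of_mem _ hg)

theorem Ops.Valid.holdAll_eq (hO : O.Valid p τ ev) : ∀ (fs : List F) (k : List F → Bool), O.holdAll fs k = k fs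
  | [], _ => rfl
  | f :: fs, k => by rw [Ops.holdAll, hO.hold_eq, hO.holdAll_eq fs]

end Derived

/-! ### Bit sets -/

/-- Bit sets, for the prime two. -/
def bitOps : Ops ℕ where
  zero := 0
  add a b := a ^^^ b
  unit v := 1 <<< v
  isZero a := a == 0
  hold := frc

/-- The value of a bit set. -/
def evBits {K : Type*} [CommGroup K] (τ : ℕ → K) (f : ℕ) : K :=
  if f = 0 then 1 else τ 0 ^ (f % 2) * evBits (fun v => τ (v + 1)) (f / 2)
  termination_by f

theorem evBits_eq {K : Type*} [CommGroup K] (τ : ℕ → K) (f : ℕ) :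
    evBits τ f = τ 0 ^ (f % 2) * evBits (fun v => τ (v + 1)) (f / 2) := by
  rw [evBits]
  split_ifs with h
  · subst h
    rw [evBits]
    simp
  · rfl

theorem bitOps_valid {K : Type*} [CommGroup K] (hK : ∀ z : K, z ^ 2 = 1) (τ : ℕ → K) :
    bitOps.Valid 2 τ (evBits τ) where
  ev_zero := by
    show evBits τ 0 = 1
    rw [evBits]; simp
  ev_add a b := by
    show evBits τ (a ^^^ b) = evBits τ a * evBits τ b
    induction a using Nat.strong_induction_on generalizing b τ with
    | _ a ih =>
      rcases Nat.eq_zero_or_pos a with rfl | ha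
      · rw [Nat.zero_xor]
        conv_rhs => arg 1; rw [evBits]
        simp
      · rw [evBits_eq τ (a ^^^ b), evBits_eq τ a, evBits_eq τ b, Nat.xor_div_two,
          ih (a / 2) (Nat.div_lt_self ha (Nat.lt_succ_self 1)) _ (b / 2)]
        have hmod : τ 0 ^ ((a ^^^ b) % 2) = τ 0 ^ (a % 2) * τ 0 ^ (b % 2) := by
          rw [← pow_add, pow_eq_pow_mod ((a ^^^ b) % 2) (hK _), pow_eq_pow_mod (a % 2 + b % 2) (hK _)]
          congr 1
          rw [Nat.xor_mod_two_eq]
          omega
        rw [hmod, mul_mul_mul_comm]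
  ev_unit v := by
    show evBits τ (1 <<< v) = τ v
    induction v generalizing τ with
    | zero => rw [evBits_eq, evBits]; simp
    | succ v ih =>
      rw [evBits_eq, show (1 <<< (v + 1)) % 2 = 0 by simp [Nat.shiftLeft_eq, Nat.pow_succ],
        show (1 <<< (v + 1)) / 2 = 1 <<< v by simp [Nat.shiftLeft_eq, Nat.pow_succ], ih, pow_zero, one_mul]
  ev_isZero a h := by
    have : a = 0 := by simpa [bitOps] using h
    rw [this, evBits]; simp
  hold_eq := frc_eq

/-! ### Vectors modulo `p` -/

/-- Addition of exponent vectors modulo `p`. -/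
def addVec (p : ℕ) : List ℕ → List ℕ → List ℕ
  | [], b => b
  | a :: as, [] => a :: as
  | a :: as, b :: bs => ((a + b) % p) :: addVec p as bs

/-- Vectors modulo `p`. -/
def vecOps (p : ℕ) : Ops (List ℕ) where
  zero := []
  add := addVec p
  unit v := List.replicate v 0 ++ [1]
  isZero a := a.all fun c => c % p == 0
  hold := frcL

/-- The value of a vector. -/
def evVec {K : Type*} [CommGroup K] : (ℕ → K) → List ℕ → K
  | _, [] => 1
  | τ, c :: cs => τ 0 ^ c * evVec (fun v => τ (v + 1)) cs

theorem vecOps_valid {p : ℕ} {K : Type*} [CommGroup K] (hK : ∀ z : K, z ^ p = 1) (τ : ℕ → K) :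
    (vecOps p).Valid p τ (evVec τ) where
  ev_zero := rfl
  ev_add a b := by
    show evVec τ (addVec p a b) = evVec τ a * evVec τ b
    induction a generalizing b τ with
    | nil => rw [addVec]; simp [evVec]
    | cons x xs ih =>
      cases b with
      | nil => rw [addVec]; simp [evVec]
      | cons y ys =>
        rw [addVec]
        simp only [evVec]
        rw [ih, ← pow_eq_pow_mod (x + y) (hK _), pow_add, mul_mul_mul_comm]
  ev_unit v := by
    show evVec τ (List.replicate v 0 ++ [1]) = τ v
    induction v generalizing τ with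
    | zero => simp [evVec]
    | succ v ih => simp [List.replicate_succ, evVec, ih]
  ev_isZero a h0 := by
    have h : ∀ c ∈ a, c % p = 0 := by simpa [vecOps] using h0
    clear h0
    induction a generalizing τ with
    | nil => rfl
    | cons c cs ih =>
      rw [evVec, ih (fun v => τ (v + 1)) (fun d hd => h d (List.mem_cons_of_mem _ hd)),
        pow_eq_pow_mod c (hK _), h c (List.mem_cons_self ..), pow_zero, one_mul]
  hold_eq := frcL_eq

end Cfsg.Agent.Lib.PcMult
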