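import Cfsg.Agent.Lib.J3.Lift
import Cfsg.Agent.Lib.PcMult.Forms

/-!
A certificate that the preimage of a Sylow subgroup splits in every central extension with kernel of
exponent `p`.

The data are a power-commutator presentation of a Sylow subgroup, overlaps of its rules, conjugations
between its subgroups, and for every rule a way to write the central element of its lift as a product
of elements that the overlaps and conjugations show to be trivial, after shifting the lifts.
-/

set_option autoImplicit false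
set_option linter.unusedSectionVars false
set_option linter.style.haveILetI false

namespace Cfsg.Agent.Lib.PcMult

open scoped commutatorElement

/-- A conjugation: pairs of words conjugate to each other, and relations between the first words. -/
abbrev Fus := List (List ℕ × List ℕ) × List (List ℕ × List ℕ)

/-- The data of a certificate. -/
structure Cert where
  R : Pres
  ovl : List (List ℕ × List ℕ × List ℕ)
  fus : List Fus
  shift : List (List ℕ)
  combs : List (List ℕ)

namespace Cert

variable (C : Cert)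

/-- The variable of a pair in a conjugation. -/
def uIdx (q k : ℕ) : ℕ := C.R.n * C.R.n + 32 * q + k

variable {F : Type} (O : Ops F)

/-- The form `a - b`. -/
def diff (a b : List ℕ) : F := O.add (O.tot a) (O.smul (C.R.p - 1) (O.tot b))

/-- The equation of an overlap. -/
def overEq (o : List ℕ × List ℕ × List ℕ) : Option F :=
  match C.R.collectW (o.1 ++ o.2.1 ++ o.2.2), C.R.collectW o.2.1 with
  | some (vL, fL), some (vb, fb) =>
    match C.R.collectW (o.1 ++ toWord 0 vb ++ o.2.2) with
    | some (vR, fR) => if vL = vR then some (C.diff O fL (fb ++ fR)) else none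
    | none => none
  | _, _ => none

/-- The equation of two equal words in a conjugation. -/
def fusEq (q : ℕ) (ps : List (List ℕ × List ℕ)) (r : List ℕ × List ℕ) : Option F :=
  if (r.1 ++ r.2).all (fun k => decide (k < ps.length)) = true ∧ ps.length ≤ 32 then
    match C.R.collectW (r.1.flatMap fun k => (ps.getD k ([], [])).1),
      C.R.collectW (r.2.flatMap fun k => (ps.getD k ([], [])).1),
      C.R.collectW (r.1.flatMap fun k => (ps.getD k ([], [])).2),
      C.R.collectW (r.2.flatMap fun k => (ps.getD k ([], [])).2) with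
    | some (va, fa), some (va', fa'), some (vb, fb), some (vb', fb') =>
      if va = va' ∧ vb = vb' then
        some (C.diff O (fa ++ (fb' ++ r.2.map (C.uIdx q))) (fa' ++ (fb ++ r.1.map (C.uIdx q))))
      else none
    | _, _, _, _ => none
  else none

/-- All equations. -/
def eqs : List (Option F) :=
  C.ovl.map (C.overEq O) ++ C.fus.zipIdx.flatMap fun qp => qp.1.2.map (C.fusEq O qp.2 qp.1.1)

/-- The shift of a word. -/
def shiftW (l : List ℕ) : List ℕ := l.flatMap fun i => C.shift.getD i []

/-- The rules as pairs of letters, powers on the diagonal. -/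
def rules : List (ℕ × ℕ) := (List.range C.R.n).flatMap fun i => (List.range' i (C.R.n - i)).map fun j => (i, j)

/-- The form of a rule after the shift. -/
def ruleForm (r : ℕ × ℕ) : F :=
  if r.1 = r.2 then C.diff O [C.R.idx r.1 r.1] (C.shiftW (C.R.pwWord r.1))
  else C.diff O (C.R.idx r.1 r.2 :: C.shift.getD r.2 []) (C.shiftW (C.R.cjWord r.1 r.2))

/-- The check. -/
def check : Bool :=
  (C.eqs O).all Option.isSome &&
    O.holdAll ((C.eqs O).filterMap id) fun es =>
      (List.range C.rules.length).all fun k =>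
        O.isZero (O.add (C.ruleForm O (C.rules.getD k (0, 0))) (O.comb (C.combs.getD k []) es))

/-- The words below `n`. -/
def Below (l : List ℕ) : Prop := ∀ i ∈ l, i < C.R.n

variable {G : Type*} [Group G]

/-- What has to hold in the group. -/
structure Real (g : ℕ → G) (h : ℕ → G) : Prop where
  pow : ∀ i < C.R.n, g i ^ C.R.p = W g (C.R.pwWord i)
  conj : ∀ i j, i < j → j < C.R.n → g j * g i = g i * W g (C.R.cjWord i j)
  fus : ∀ qp ∈ C.fus.zipIdx, ∀ ab ∈ qp.1.1, h qp.2 * W g ab.1 = W g ab.2 * h qp.2
  mem : ∀ i < C.R.n, (∀ k ∈ C.R.pwWord i, i < k ∧ k < C.R.n) ∧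
    ∀ j, i < j → j < C.R.n → ∀ k ∈ C.R.cjWord i j, i < k ∧ k < C.R.n
  new : ∀ i < C.R.n, g i ∉ Subgroup.closure (g '' Set.Ioo i C.R.n)

end Cert

section Main

universe u

variable {Γ : Type u} {G : Type*} [Group Γ] [Group G] (σ : Γ →* G)

theorem map_W (X : ℕ → Γ) (l : List ℕ) : σ (W X l) = W (fun i => σ (X i)) l := by
  simp [W, map_list_prod, Function.comp_def]

variable {σ}

/-- Shifting the letters by central elements. -/
theorem W_shift {K : Type*} [CommGroup K] (ι : K →* Γ) (hι : ∀ z y, Commute (ι z) y) (X : ℕ → Γ) (c : ℕ → K) :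
    ∀ l : List ℕ, W (fun i => X i * ι (c i)) l = W X l * ι ((l.map c).prod)
  | [] => by simp [W]
  | a :: l => by
    rw [W_cons, W_cons, W_shift ι hι X c l, List.map_cons, List.prod_cons, map_mul]
    simp only [mul_assoc, (hι (c a) (W X l)).left_comm]

theorem U_flatMap {K : Type*} [CommGroup K] (τ : ℕ → K) (f : ℕ → List ℕ) :
    ∀ l : List ℕ, U τ (l.flatMap f) = (l.map fun i => U τ (f i)).prod
  | [] => by simp [U]
  | a :: l => by rw [List.flatMap_cons, U_append, U_flatMap τ f l, List.map_cons, List.prod_cons]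

variable [Finite Γ] [Finite G]

/-- The image of the closure of a final segment grows by the factor `p` at every letter. -/
theorem le_card_closure {C : Cert} (hp : C.R.p.Prime) {g h : ℕ → G} (hR : C.Real g h) :
    ∀ k ≤ C.R.n, C.R.p ^ k ≤ Nat.card (Subgroup.closure (g '' Set.Ico (C.R.n - k) C.R.n))
  | 0, _ => by simp
  | k + 1, hk => by
    have ih := le_card_closure hp hR k (by omega)
    set i := C.R.n - (k + 1) with hi
    have hin : i < C.R.n := by omega
    have e : C.R.n - k = i + 1 := by omega
    rw [e, show Set.Ico (i + 1) C.R.n = Set.Ioo i C.R.n from Order.Ico_succ_left i C.R.n] at ih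
    set H := Subgroup.closure (g '' Set.Ioo i C.R.n)
    set H' := Subgroup.closure (g '' Set.Ico i C.R.n)
    have hH : H ≤ H' := Subgroup.closure_mono (Set.image_mono Set.Ioo_subset_Ico_self)
    have hg : g i ∈ H' := Subgroup.subset_closure ⟨i, ⟨le_rfl, hin⟩, rfl⟩
    have hgp : g i ^ C.R.p ∈ H := by
      rw [hR.pow i hin]
      refine list_prod_mem fun x hx => ?_
      obtain ⟨j, hj, rfl⟩ := List.mem_map.1 hx
      exact Subgroup.subset_closure ⟨j, (hR.mem i hin).1 j hj, rfl⟩
    let f : Fin C.R.p × H → H' := fun x => ⟨g i ^ (x.1 : ℕ) * x.2, mul_mem (pow_mem hg _) (hH x.2.2)⟩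
    have hf : Function.Injective f := by
      rintro ⟨a, x⟩ ⟨b, y⟩ e
      have e : g i ^ (a : ℕ) * x = g i ^ (b : ℕ) * (y : G) := congrArg Subtype.val e
      have hab : (a : ℕ) = b := by
        by_contra hne
        apply hR.new i hin
        have hmem : g i ^ ((a : ℤ) - b) ∈ H := by
          have e2 : g i ^ ((a : ℤ) - b) = (y : G) * (x : G)⁻¹ := by
            rw [sub_eq_neg_add, zpow_add, zpow_neg, zpow_natCast, zpow_natCast, eq_mul_inv_iff_mul_eq,
              mul_assoc, e, inv_mul_cancel_left]
          rw [e2]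
          exact mul_mem y.2 (inv_mem x.2)
        have hpz : Prime (C.R.p : ℤ) := Nat.prime_iff_prime_int.1 hp
        have hnd : ¬ (C.R.p : ℤ) ∣ (a : ℤ) - b := fun hd => by
          have := Int.eq_zero_of_abs_lt_dvd hd (abs_lt.2 ⟨by omega, by omega⟩)
          omega
        obtain ⟨u, v, huv⟩ := (hpz.coprime_iff_not_dvd).2 hnd
        have : g i ^ (u * (C.R.p : ℤ) + v * ((a : ℤ) - b)) ∈ H := by
          rw [zpow_add, mul_comm u, zpow_mul, zpow_natCast, mul_comm v, zpow_mul]
          exact mul_mem (zpow_mem hgp _) (zpow_mem hmem _)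
        rwa [huv, zpow_one] at this
      obtain rfl := Fin.ext hab
      exact Prod.ext rfl (Subtype.ext (mul_left_cancel e))
    have := Nat.card_le_card_of_injective f hf
    rw [Nat.card_prod, Nat.card_eq_fintype_card (α := Fin C.R.p), Fintype.card_fin] at this
    calc C.R.p ^ (k + 1) = C.R.p * C.R.p ^ k := by rw [pow_succ']
      _ ≤ _ := (Nat.mul_le_mul_left _ ih).trans this

/-- The rules without central elements bound the order of the closure. -/
theorem card_closure_le {R : Pres} (hp : 0 < R.p) {Y : ℕ → Γ}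
    (hpow : ∀ i < R.n, Y i ^ R.p = W Y (R.pwWord i))
    (hconj : ∀ i j, i < j → j < R.n → Y j * Y i = Y i * W Y (R.cjWord i j))
    (hmem : ∀ i < R.n, (∀ k ∈ R.pwWord i, i < k ∧ k < R.n) ∧
      ∀ j, i < j → j < R.n → ∀ k ∈ R.cjWord i j, i < k ∧ k < R.n) :
    ∀ k ≤ R.n, Nat.card (Subgroup.closure (Y '' Set.Ico (R.n - k) R.n)) ≤ R.p ^ k
  | 0, _ => by simp
  | k + 1, hk => by
    have ih := card_closure_le hp hpow hconj hmem k (by omega)
    set i := R.n - (k + 1) with hi
    have hin : i < R.n := by omega
    have e : R.n - k = i + 1 := by omega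
    rw [e, show Set.Ico (i + 1) R.n = Set.Ioo i R.n from Order.Ico_succ_left i R.n] at ih
    rw [← Set.Ioo_insert_left hin, Set.image_insert_eq]
    have hW : ∀ l : List ℕ, (∀ k ∈ l, i < k ∧ k < R.n) → W Y l ∈ Subgroup.closure (Y '' Set.Ioo i R.n) := by
      intro l hl
      refine list_prod_mem fun x hx => ?_
      obtain ⟨j, hj, rfl⟩ := List.mem_map.1 hx
      exact Subgroup.subset_closure ⟨j, hl j hj, rfl⟩
    have key : Subgroup.closure (insert (Y i) (Y '' Set.Ioo i R.n)) ≤
        Subgroup.closure (insert (Y i)⁻¹ (Y '' Set.Ioo i R.n)) := by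
      rw [Subgroup.closure_le]
      rintro x (hx | hx)
      · rw [hx]
        simpa using inv_mem (Subgroup.subset_closure (Set.mem_insert (Y i)⁻¹ (Y '' Set.Ioo i R.n)))
      · exact Subgroup.subset_closure (Set.mem_insert_of_mem _ hx)
    refine (Subgroup.card_le_of_le key).trans ((J3.Lift.grow hp ?_ ?_ ih).trans (le_of_eq (by rw [pow_succ'])))
    · rw [inv_pow, hpow i hin]
      exact inv_mem (hW _ (hmem i hin).1)
    · rintro _ ⟨j, hj, rfl⟩
      rw [inv_inv, mul_assoc, hconj i j hj.1 hj.2, inv_mul_cancel_left]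
      exact hW _ ((hmem i hin).2 j hj.1 hj.2)

theorem split {C : Cert} {F : Type} {O : Ops F} (hp : C.R.p.Prime) (hc : σ.ker ≤ Subgroup.center Γ)
    (hσ : Function.Surjective σ) (hex : ∀ z, σ z = 1 → z ^ C.R.p = 1)
    (hO : ∀ (K : Type u) [CommGroup K], (∀ z : K, z ^ C.R.p = 1) → ∀ τ : ℕ → K, ∃ ev, O.Valid C.R.p τ ev)
    (hC : C.check O = true) {g h : ℕ → G} (hR : C.Real g h)
    (hN : (Nat.card G).factorization C.R.p = C.R.n) {p : ℕ} [Fact p.Prime] (hpp : C.R.p = p) (P : Sylow p Γ) :
    ⁅(P : Subgroup Γ), (P : Subgroup Γ)⁆ ⊓ σ.ker = ⊥ := by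
  classical
  subst hpp
  let K : Type _ := σ.ker
  letI : CommGroup K :=
    { (σ.ker.toGroup : Group K) with
      mul_comm := fun a b => Subtype.ext ((Subgroup.mem_center_iff.1 (hc b.2)) a) }
  have hK : ∀ z : K, z ^ C.R.p = 1 := fun z => Subtype.ext (by
    rw [SubmonoidClass.coe_pow]; exact hex _ z.2)
  let ι : K →* Γ := σ.ker.subtype
  have hι : ∀ z y, Commute (ι z) y := fun z y => (Subgroup.mem_center_iff.1 (hc z.2) y).symm
  have hιinj : Function.Injective ι := Subtype.val_injective
  choose X hX using fun i => hσ (g i)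
  choose H hH using fun i => hσ (h i)
  have hσW : ∀ l, σ (W X l) = W g l := fun l => by rw [map_W]; simp only [hX]
  let t : ℕ → Γ := fun v =>
    if v < C.R.n * C.R.n then
      if v / C.R.n = v % C.R.n then (W X (C.R.pwWord (v / C.R.n)))⁻¹ * X (v / C.R.n) ^ C.R.p
      else (W X (C.R.cjWord (v / C.R.n) (v % C.R.n)))⁻¹ * (X (v / C.R.n))⁻¹ *
        (X (v % C.R.n) * X (v / C.R.n))
    else
      let q := (v - C.R.n * C.R.n) / 32
      let ab := ((C.fus.getD q ([], [])).1).getD ((v - C.R.n * C.R.n) % 32) ([], [])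
      (W X ab.2)⁻¹ * (H q * W X ab.1 * (H q)⁻¹)
  let τ : ℕ → K := fun v => if hv : σ (t v) = 1 then ⟨t v, hv⟩ else 1
  obtain ⟨ev, hv⟩ := hO K hK τ
  have hidx : ∀ {i j}, i < C.R.n → j < C.R.n →
      C.R.idx i j < C.R.n * C.R.n ∧ C.R.idx i j / C.R.n = i ∧ C.R.idx i j % C.R.n = j := by
    intro i j hi hj
    refine ⟨?_, ?_, ?_⟩
    · calc i * C.R.n + j < i * C.R.n + C.R.n := by omega
        _ = (i + 1) * C.R.n := by rw [Nat.succ_mul]
        _ ≤ _ := Nat.mul_le_mul_right _ hi
    · rw [Pres.idx, Nat.mul_comm, Nat.mul_add_div (by omega), Nat.div_eq_of_lt hj, Nat.add_zero]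
    · rw [Pres.idx, Nat.mul_comm, Nat.mul_add_mod, Nat.mod_eq_of_lt hj]
  have hτ : ∀ v, σ (t v) = 1 → ι (τ v) = t v := fun v hv' => by
    show ((τ v : K) : σ.ker).1 = _
    simp only [τ, dif_pos hv']
  have hHolds : Holds ι X τ C.R := by
    constructor
    · intro i hi
      obtain ⟨h1, h2, h3⟩ := hidx hi hi
      have e : t (C.R.idx i i) = (W X (C.R.pwWord i))⁻¹ * X i ^ C.R.p := by
        simp only [t, if_pos h1, h2, h3, if_true]
      rw [hτ _ (by rw [e, map_mul, map_inv, hσW, map_pow, hX, hR.pow i hi, inv_mul_cancel]), e,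
        mul_inv_cancel_left]
    · intro i j hij hj
      obtain ⟨h1, h2, h3⟩ := hidx (hij.trans hj) hj
      have e : t (C.R.idx i j) = (W X (C.R.cjWord i j))⁻¹ * (X i)⁻¹ * (X j * X i) := by
        simp only [t, if_pos h1, h2, h3, if_neg hij.ne]
      rw [hτ _ (by
        rw [e, map_mul, map_mul, map_inv, map_inv, hσW, map_mul, hX, hX, hR.conj i j hij hj]; group), e]
      group
  have hUu : ∀ q ps (rs : List (List ℕ × List ℕ)), ((ps, rs), q) ∈ C.fus.zipIdx → ∀ k, k < ps.length → k < 32 →
      H q * W X (ps.getD k ([], [])).1 * (H q)⁻¹ = W X (ps.getD k ([], [])).2 * ι (τ (C.uIdx q k)) := by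
    intro q ps rs hmem k hk hk32
    have hget : C.fus[q]? = some (ps, rs) := List.mem_zipIdx_iff_getElem?.1 hmem
    have e : t (C.uIdx q k) = (W X (ps.getD k ([], [])).2)⁻¹ * (H q * W X (ps.getD k ([], [])).1 * (H q)⁻¹) := by
      have h1 : ¬ C.uIdx q k < C.R.n * C.R.n := by simp only [Cert.uIdx]; omega
      have h2 : (C.uIdx q k - C.R.n * C.R.n) / 32 = q := by simp only [Cert.uIdx]; omega
      have h3 : (C.uIdx q k - C.R.n * C.R.n) % 32 = k := by simp only [Cert.uIdx]; omega
      simp only [t, if_neg h1, h2, h3]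
      rw [List.getD_eq_getElem?_getD (l := C.fus), hget]
      rfl
    have hab : ps.getD k ([], []) ∈ ps := by
      rw [List.getD_eq_getElem _ _ hk]; exact List.getElem_mem hk
    have hG := hR.fus _ hmem _ hab
    rw [hτ _ (by
      rw [e, map_mul, map_mul, map_mul, map_inv, map_inv, hσW, hσW, hH, hG]; group), e, mul_inv_cancel_left]
  -- the equations
  have hdiff : ∀ a b, U τ a = U τ b → ev (C.diff O a b) = 1 := by
    intro a b e
    rw [Cert.diff, hv.ev_add, hv.ev_smul, hv.ev_tot, hv.ev_tot, e, ← pow_succ',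
      Nat.sub_add_cancel hp.one_le, hK]
  have heqs : ∀ f, some f ∈ C.eqs O → ev f = 1 := by
    intro f hf
    rcases List.mem_append.1 hf with hf | hf
    · obtain ⟨⟨a, b, c⟩, -, e⟩ := List.mem_map.1 hf
      simp only [Cert.overEq] at e
      split at e
      next vL fL vb fb eL eb =>
        split at e
        next vR fR eR =>
          split_ifs at e with hvv
          obtain rfl := Option.some.inj e
          subst hvv
          refine hdiff _ _ (hιinj (mul_left_cancel (a := W X (toWord 0 vL)) ?_))
          have e1 := collectW_spec hι hHolds eL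
          have e2 := collectW_spec hι hHolds eb
          have e3 := collectW_spec hι hHolds eR
          rw [← e1, U_append, map_mul, W_append, W_append, e2, (hι (U τ fb) (ι (U τ fR))).eq,
            ← mul_assoc (W X (toWord 0 vL)), ← e3, W_append, W_append]
          simp only [mul_assoc]
          rw [(hι (U τ fb) (W X c)).eq]
        next => cases e
      next => cases e
    · obtain ⟨⟨⟨ps, rs⟩, q⟩, hqp, hm⟩ := List.mem_flatMap.1 hf
      obtain ⟨r, -, e⟩ := List.mem_map.1 hm
      simp only [Cert.fusEq] at e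
      split_ifs at e with hr
      split at e
      next va fa va' fa' vb fb vb' fb' ea ea' eb eb' =>
        split_ifs at e with hv0
        obtain rfl := Option.some.inj e
        obtain ⟨h0a, h0b⟩ := hv0
        subst h0a h0b
        refine hdiff _ _ (hιinj ?_)
        have hk : ∀ k ∈ r.1 ++ r.2, k < ps.length ∧ k < 32 := fun k hk => by
          have := of_decide_eq_true (List.all_eq_true.1 hr.1 k hk)
          exact ⟨this, lt_of_lt_of_le this hr.2⟩
        have hconj : ∀ l : List ℕ, (∀ k ∈ l, k < ps.length ∧ k < 32) →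
            H q * W X (l.flatMap fun k => (ps.getD k ([], [])).1) * (H q)⁻¹ =
              W X (l.flatMap fun k => (ps.getD k ([], [])).2) * ι (U τ (l.map (C.uIdx q))) := by
          intro l hl
          induction l with
          | nil => simp [W, U]
          | cons k l ih =>
            obtain ⟨h1, h2⟩ := hl k (by simp)
            have h3 := hUu q ps rs hqp k h1 h2
            have h4 := ih fun j hj => hl j (List.mem_cons_of_mem _ hj)
            rw [List.flatMap_cons, List.flatMap_cons, W_append, W_append, List.map_cons, U_cons, map_mul]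
            calc _ = (H q * W X (ps.getD k ([], [])).1 * (H q)⁻¹) *
                  (H q * W X (l.flatMap fun k => (ps.getD k ([], [])).1) * (H q)⁻¹) := by group
              _ = _ := by
                rw [h3, h4]
                simp only [mul_assoc, (hι (τ (C.uIdx q k)) (W X (l.flatMap fun k => (ps.getD k ([], [])).2))).left_comm]
        have e1 := hconj r.1 fun k h => hk k (List.mem_append_left _ h)
        have e2 := hconj r.2 fun k h => hk k (List.mem_append_right _ h)
        rw [collectW_spec hι hHolds ea, collectW_spec hι hHolds eb] at e1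
        rw [collectW_spec hι hHolds ea', collectW_spec hι hHolds eb'] at e2
        set V := H q * W X (toWord 0 va) * (H q)⁻¹ with hV
        have pull : ∀ z : K, H q * (W X (toWord 0 va) * ι z) * (H q)⁻¹ = V * ι z := fun z => by
          rw [hV]
          simp only [mul_assoc]
          rw [(hι z (H q)⁻¹).eq]
        rw [pull] at e1 e2
        have key : ι (U τ fa) * ι (U τ fb' * U τ (r.2.map (C.uIdx q))) =
            ι (U τ fa') * ι (U τ fb * U τ (r.1.map (C.uIdx q))) := by
          have f1 : V = W X (toWord 0 vb) * ι (U τ fb * U τ (r.1.map (C.uIdx q)) * (U τ fa)⁻¹) := by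
            rw [map_mul, map_mul, map_inv, ← mul_assoc, ← mul_assoc, ← e1, mul_inv_cancel_right]
          have f2 : V = W X (toWord 0 vb) * ι (U τ fb' * U τ (r.2.map (C.uIdx q)) * (U τ fa')⁻¹) := by
            rw [map_mul, map_mul, map_inv, ← mul_assoc, ← mul_assoc, ← e2, mul_inv_cancel_right]
          have f3 := hιinj (mul_left_cancel (f1.symm.trans f2))
          rw [← map_mul, ← map_mul]
          refine congrArg ι ?_
          calc U τ fa * (U τ fb' * U τ (r.2.map (C.uIdx q))) =
              U τ fa * U τ fa' * (U τ fb' * U τ (r.2.map (C.uIdx q)) * (U τ fa')⁻¹) := by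
                rw [mul_mul_mul_comm, mul_inv_cancel, mul_one]
            _ = U τ fa' * U τ fa * (U τ fb * U τ (r.1.map (C.uIdx q)) * (U τ fa)⁻¹) := by
                rw [f3, mul_comm (U τ fa)]
            _ = _ := by rw [mul_mul_mul_comm, mul_inv_cancel, mul_one]
        simpa only [U_append, map_mul] using key
      next => cases e
  simp only [Cert.check, Bool.and_eq_true, hv.holdAll_eq] at hC
  obtain ⟨-, hcomb⟩ := hC
  let c : ℕ → K := fun i => U τ (C.shift.getD i [])
  let Y : ℕ → Γ := fun i => X i * ι (c i)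
  have hc' : ∀ l, (l.map c).prod = U τ (C.shiftW l) := fun l => (U_flatMap τ _ l).symm
  have hrule : ∀ i j, i ≤ j → j < C.R.n → ev (C.ruleForm O (i, j)) = 1 := by
    intro i j hij hj
    have hmem : (i, j) ∈ C.rules := List.mem_flatMap.2 ⟨i, List.mem_range.2 (by omega),
      List.mem_map.2 ⟨j, List.mem_range'_1.2 ⟨hij, by omega⟩, rfl⟩⟩
    obtain ⟨k, hk, ek⟩ := List.getElem_of_mem hmem
    have := hv.ev_isZero _ (List.all_eq_true.1 hcomb k (List.mem_range.2 hk))
    rw [hv.ev_add, List.getD_eq_getElem _ _ hk, ek,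
      hv.ev_comb _ _ fun f hf => heqs f (by simpa [List.mem_filterMap] using hf), mul_one] at this
    exact this
  have hdiff' : ∀ a b, ev (C.diff O a b) = 1 → U τ a = U τ b := by
    intro a b e
    rw [Cert.diff, hv.ev_add, hv.ev_smul, hv.ev_tot, hv.ev_tot] at e
    have h2 : U τ b ^ (C.R.p - 1) * U τ b = 1 := by rw [← pow_succ, Nat.sub_add_cancel hp.one_le, hK]
    calc U τ a = U τ a * (U τ b ^ (C.R.p - 1) * U τ b) := by rw [h2, mul_one]
      _ = U τ b := by rw [← mul_assoc, e, one_mul]
  have hY1 : ∀ i < C.R.n, Y i ^ C.R.p = W Y (C.R.pwWord i) := by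
    intro i hi
    have e := hrule i i le_rfl hi
    simp only [Cert.ruleForm, if_true] at e
    have e := hdiff' _ _ e
    rw [U_cons, show U τ [] = 1 from rfl, mul_one] at e
    show (X i * ι (c i)) ^ C.R.p = W (fun i => X i * ι (c i)) _
    rw [(hι (c i) (X i)).symm.mul_pow, ← map_pow, hK, map_one, mul_one, hHolds.pow i hi,
      W_shift ι hι, e, hc']
  have hY2 : ∀ i j, i < j → j < C.R.n → Y j * Y i = Y i * W Y (C.R.cjWord i j) := by
    intro i j hij hj
    have e := hrule i j hij.le hj
    simp only [Cert.ruleForm, if_neg hij.ne] at e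
    have e := hdiff' _ _ e
    rw [U_cons] at e
    show X j * ι (c j) * (X i * ι (c i)) = X i * ι (c i) * W (fun i => X i * ι (c i)) _
    rw [W_shift ι hι, hc', ← e, map_mul, (hι (c j) (X i)).mul_mul_mul_comm, hHolds.conj i j hij hj]
    simp only [mul_assoc]
    rw [(hι (c i) (W X (C.R.cjWord i j))).left_comm]
    simp only [← map_mul, c]
    congr 3
    rw [mul_comm (U τ (C.shift.getD j [])), mul_left_comm]
  have hYimg : σ '' (Y '' Set.Ico 0 C.R.n) = g '' Set.Ico 0 C.R.n := by
    rw [Set.image_image]
    refine Set.image_congr fun i _ => ?_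
    show σ (X i * ι (c i)) = g i
    rw [map_mul, hX, show σ (ι (c i)) = 1 from (c i).2, mul_one]
  refine J3.Lift.split_of_card σ hc hσ (Subgroup.closure (Y '' Set.Ico 0 C.R.n)) ?_ ?_ hN P
  · have := card_closure_le hp.pos hY1 hY2 hR.mem C.R.n le_rfl
    rwa [Nat.sub_self] at this
  · rw [MonoidHom.map_closure, hYimg]
    have := le_card_closure hp hR C.R.n le_rfl
    rwa [Nat.sub_self] at this

end Main

end Cfsg.Agent.Lib.PcMult
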