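import Cfsg.Agent.Lib.PcMult.Split
import Cfsg.Agent.SimpleFacts.SLTwoMultiplier

/-!
A certificate that the derived group of a Sylow preimage meets the kernel of a central extension in a small
subgroup, for kernels of any exponent.

As in `Split`, the data are a power-commutator presentation, overlaps and conjugations. The central element
of every shifted rule has now to be a power of one residual element, and a multiple of the residual element
has to follow from the equations.
-/

set_option autoImplicit false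
set_option linter.unusedSectionVars false
set_option linter.style.haveILetI false

namespace Cfsg.Agent.Lib.PcMult

open scoped commutatorElement

section Forms

variable {F : Type} (C : Cert) (O : Ops F) (m : ℕ)

/-- The form `a - b` modulo `m`. -/
def diffM (a b : List ℕ) : F := O.add (O.tot a) (O.smul (m - 1) (O.tot b))

/-- The equation of an overlap modulo `m`. -/
def overEqM (o : List ℕ × List ℕ × List ℕ) : Option F :=
  match C.R.collectW (o.1 ++ o.2.1 ++ o.2.2), C.R.collectW o.2.1 with
  | some (vL, fL), some (vb, fb) =>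
    match C.R.collectW (o.1 ++ toWord 0 vb ++ o.2.2) with
    | some (vR, fR) => if vL = vR then some (diffM O m fL (fb ++ fR)) else none
    | none => none
  | _, _ => none

/-- The equation of two equal words in a conjugation, modulo `m`. -/
def fusEqM (q : ℕ) (ps : List (List ℕ × List ℕ)) (r : List ℕ × List ℕ) : Option F :=
  if (r.1 ++ r.2).all (fun k => decide (k < ps.length)) = true ∧ ps.length ≤ 32 then
    match C.R.collectW (r.1.flatMap fun k => (ps.getD k ([], [])).1),
      C.R.collectW (r.2.flatMap fun k => (ps.getD k ([], [])).1),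
      C.R.collectW (r.1.flatMap fun k => (ps.getD k ([], [])).2),
      C.R.collectW (r.2.flatMap fun k => (ps.getD k ([], [])).2) with
    | some (va, fa), some (va', fa'), some (vb, fb), some (vb', fb') =>
      if va = va' ∧ vb = vb' then
        some (diffM O m (fa ++ (fb' ++ r.2.map (C.uIdx q))) (fa' ++ (fb ++ r.1.map (C.uIdx q))))
      else none
    | _, _, _, _ => none
  else none

/-- All equations modulo `m`. -/
def eqsM : List (Option F) :=
  C.ovl.map (overEqM C O m) ++ C.fus.zipIdx.flatMap fun qp => qp.1.2.map (fusEqM C O m qp.2 qp.1.1)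

/-- The form of a rule after the shift, modulo `m`. -/
def ruleFormM (r : ℕ × ℕ) : F :=
  if r.1 = r.2 then
    diffM O m (C.R.idx r.1 r.1 :: (List.replicate C.R.p (C.shift.getD r.1 [])).flatten)
      (C.shiftW (C.R.pwWord r.1))
  else diffM O m (C.R.idx r.1 r.2 :: C.shift.getD r.2 []) (C.shiftW (C.R.cjWord r.1 r.2))

/-- The check: every shifted rule is `mult` times the residual form, and `d` times the residual form is trivial. -/
def checkM (res : List ℕ) (mult tor : List ℕ) (d : ℕ) : Bool :=
  (eqsM C O m).all Option.isSome &&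
    O.holdAll ((eqsM C O m).filterMap id) fun es =>
      O.hold (O.tot res) fun R =>
        ((List.range C.rules.length).all fun k =>
          O.isZero (O.add (O.add (ruleFormM C O m (C.rules.getD k (0, 0))) (O.comb (C.combs.getD k []) es))
            (O.smul (mult.getD k 0) R))) &&
        O.isZero (O.add (O.smul d R) (O.comb tor es))

end Forms

universe u

variable {Γ : Type u} {G : Type*} [Group Γ] [Group G] {σ : Γ →* G} [Finite Γ] [Finite G]

theorem U_replicate {K : Type*} [CommGroup K] (τ : ℕ → K) (l : List ℕ) :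
    ∀ k : ℕ, U τ (List.replicate k l).flatten = U τ l ^ k
  | 0 => by simp [U]
  | k + 1 => by rw [List.replicate_succ, List.flatten_cons, U_append, U_replicate τ l k, pow_succ']

/-- The derived group of a Sylow preimage meets the kernel in at most `d` elements. -/
theorem bounded {C : Cert} {F : Type} {O : Ops F} {m d : ℕ} (hm : 1 ≤ m) (hd : 0 < d) (hp : C.R.p.Prime)
    (hc : σ.ker ≤ Subgroup.center Γ) (hσ : Function.Surjective σ) (hex : ∀ z, σ z = 1 → z ^ m = 1)
    (hO : ∀ (K : Type u) [CommGroup K], (∀ z : K, z ^ m = 1) → ∀ τ : ℕ → K, ∃ ev, O.Valid m τ ev)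
    {res mult tor : List ℕ} (hC : checkM C O m res mult tor d = true) {g h : ℕ → G} (hR : C.Real g h)
    (hN : (Nat.card G).factorization C.R.p = C.R.n) {p : ℕ} [Fact p.Prime] (hpp : C.R.p = p) (P : Sylow p Γ) :
    Nat.card ↥(⁅(P : Subgroup Γ), (P : Subgroup Γ)⁆ ⊓ σ.ker) ≤ d := by
  classical
  subst hpp
  let K : Type _ := σ.ker
  letI : CommGroup K :=
    { (σ.ker.toGroup : Group K) with
      mul_comm := fun a b => Subtype.ext ((Subgroup.mem_center_iff.1 (hc b.2)) a) }
  have hK : ∀ z : K, z ^ m = 1 := fun z => Subtype.ext (by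
    rw [SubmonoidClass.coe_pow]; exact hex _ z.2)
  let ι : K →* Γ := σ.ker.subtype
  have hι : ∀ z y, Commute (ι z) y := fun z y => (Subgroup.mem_center_iff.1 (hc z.2) y).symm
  have hιinj : Function.Injective ι := Subtype.val_injective
  choose X hX using fun i => hσ (g i)
  choose H hH using fun i => hσ (h i)
  have hσW : ∀ l, σ (W X l) = W g l := fun l => by rw [map_W]; simp only [hX]
  let t : ℕ → Γ := fun v =>
    if v < C.R.n * C.R.n then
      if v / C.R.n = v % C.R.n then (W X (C.R.pwWord (v / C.R.n)))⁻¹ * X (v / C.R.n) ^ C.R.p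
      else (W X (C.R.cjWord (v / C.R.n) (v % C.R.n)))⁻¹ * (X (v / C.R.n))⁻¹ *
        (X (v % C.R.n) * X (v / C.R.n))
    else
      let q := (v - C.R.n * C.R.n) / 32
      let ab := ((C.fus.getD q ([], [])).1).getD ((v - C.R.n * C.R.n) % 32) ([], [])
      (W X ab.2)⁻¹ * (H q * W X ab.1 * (H q)⁻¹)
  let τ : ℕ → K := fun v => if hv : σ (t v) = 1 then ⟨t v, hv⟩ else 1
  obtain ⟨ev, hv⟩ := hO K hK τ
  have hidx : ∀ {i j}, i < C.R.n → j < C.R.n →
      C.R.idx i j < C.R.n * C.R.n ∧ C.R.idx i j / C.R.n = i ∧ C.R.idx i j % C.R.n = j := by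
    intro i j hi hj
    refine ⟨?_, ?_, ?_⟩
    · calc i * C.R.n + j < i * C.R.n + C.R.n := by omega
        _ = (i + 1) * C.R.n := by rw [Nat.succ_mul]
        _ ≤ _ := Nat.mul_le_mul_right _ hi
    · rw [Pres.idx, Nat.mul_comm, Nat.mul_add_div (by omega), Nat.div_eq_of_lt hj, Nat.add_zero]
    · rw [Pres.idx, Nat.mul_comm, Nat.mul_add_mod, Nat.mod_eq_of_lt hj]
  have hτ : ∀ v, σ (t v) = 1 → ι (τ v) = t v := fun v hv' => by
    show ((τ v : K) : σ.ker).1 = _
    simp only [τ, dif_pos hv']
  have hHolds : Holds ι X τ C.R := by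
    constructor
    · intro i hi
      obtain ⟨h1, h2, h3⟩ := hidx hi hi
      have e : t (C.R.idx i i) = (W X (C.R.pwWord i))⁻¹ * X i ^ C.R.p := by
        simp only [t, if_pos h1, h2, h3, if_true]
      rw [hτ _ (by rw [e, map_mul, map_inv, hσW, map_pow, hX, hR.pow i hi, inv_mul_cancel]), e,
        mul_inv_cancel_left]
    · intro i j hij hj
      obtain ⟨h1, h2, h3⟩ := hidx (hij.trans hj) hj
      have e : t (C.R.idx i j) = (W X (C.R.cjWord i j))⁻¹ * (X i)⁻¹ * (X j * X i) := by
        simp only [t, if_pos h1, h2, h3, if_neg hij.ne]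
      rw [hτ _ (by
        rw [e, map_mul, map_mul, map_inv, map_inv, hσW, map_mul, hX, hX, hR.conj i j hij hj]; group), e]
      group
  have hUu : ∀ q ps (rs : List (List ℕ × List ℕ)), ((ps, rs), q) ∈ C.fus.zipIdx → ∀ k, k < ps.length → k < 32 →
      H q * W X (ps.getD k ([], [])).1 * (H q)⁻¹ = W X (ps.getD k ([], [])).2 * ι (τ (C.uIdx q k)) := by
    intro q ps rs hmem k hk hk32
    have hget : C.fus[q]? = some (ps, rs) := List.mem_zipIdx_iff_getElem?.1 hmem
    have e : t (C.uIdx q k) = (W X (ps.getD k ([], [])).2)⁻¹ * (H q * W X (ps.getD k ([], [])).1 * (H q)⁻¹) := by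
      have h1 : ¬ C.uIdx q k < C.R.n * C.R.n := by simp only [Cert.uIdx]; omega
      have h2 : (C.uIdx q k - C.R.n * C.R.n) / 32 = q := by simp only [Cert.uIdx]; omega
      have h3 : (C.uIdx q k - C.R.n * C.R.n) % 32 = k := by simp only [Cert.uIdx]; omega
      simp only [t, if_neg h1, h2, h3]
      rw [List.getD_eq_getElem?_getD (l := C.fus), hget]
      rfl
    have hab : ps.getD k ([], []) ∈ ps := by
      rw [List.getD_eq_getElem _ _ hk]; exact List.getElem_mem hk
    have hG := hR.fus _ hmem _ hab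
    rw [hτ _ (by
      rw [e, map_mul, map_mul, map_mul, map_inv, map_inv, hσW, hσW, hH, hG]; group), e, mul_inv_cancel_left]
  -- the equations
  have hdiff : ∀ a b, U τ a = U τ b → ev (diffM O m a b) = 1 := by
    intro a b e
    rw [diffM, hv.ev_add, hv.ev_smul, hv.ev_tot, hv.ev_tot, e, ← pow_succ',
      Nat.sub_add_cancel hm, hK]
  have heqs : ∀ f, some f ∈ eqsM C O m → ev f = 1 := by
    intro f hf
    rcases List.mem_append.1 hf with hf | hf
    · obtain ⟨⟨a, b, c⟩, -, e⟩ := List.mem_map.1 hf
      simp only [overEqM] at e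
      split at e
      next vL fL vb fb eL eb =>
        split at e
        next vR fR eR =>
          split_ifs at e with hvv
          obtain rfl := Option.some.inj e
          subst hvv
          refine hdiff _ _ (hιinj (mul_left_cancel (a := W X (toWord 0 vL)) ?_))
          have e1 := collectW_spec hι hHolds eL
          have e2 := collectW_spec hι hHolds eb
          have e3 := collectW_spec hι hHolds eR
          rw [← e1, U_append, map_mul, W_append, W_append, e2, (hι (U τ fb) (ι (U τ fR))).eq,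
            ← mul_assoc (W X (toWord 0 vL)), ← e3, W_append, W_append]
          simp only [mul_assoc]
          rw [(hι (U τ fb) (W X c)).eq]
        next => cases e
      next => cases e
    · obtain ⟨⟨⟨ps, rs⟩, q⟩, hqp, hm⟩ := List.mem_flatMap.1 hf
      obtain ⟨r, -, e⟩ := List.mem_map.1 hm
      simp only [fusEqM] at e
      split_ifs at e with hr
      split at e
      next va fa va' fa' vb fb vb' fb' ea ea' eb eb' =>
        split_ifs at e with hv0
        obtain rfl := Option.some.inj e
        obtain ⟨h0a, h0b⟩ := hv0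
        subst h0a h0b
        refine hdiff _ _ (hιinj ?_)
        have hk : ∀ k ∈ r.1 ++ r.2, k < ps.length ∧ k < 32 := fun k hk => by
          have := of_decide_eq_true (List.all_eq_true.1 hr.1 k hk)
          exact ⟨this, lt_of_lt_of_le this hr.2⟩
        have hconj : ∀ l : List ℕ, (∀ k ∈ l, k < ps.length ∧ k < 32) →
            H q * W X (l.flatMap fun k => (ps.getD k ([], [])).1) * (H q)⁻¹ =
              W X (l.flatMap fun k => (ps.getD k ([], [])).2) * ι (U τ (l.map (C.uIdx q))) := by
          intro l hl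
          induction l with
          | nil => simp [W, U]
          | cons k l ih =>
            obtain ⟨h1, h2⟩ := hl k (by simp)
            have h3 := hUu q ps rs hqp k h1 h2
            have h4 := ih fun j hj => hl j (List.mem_cons_of_mem _ hj)
            rw [List.flatMap_cons, List.flatMap_cons, W_append, W_append, List.map_cons, U_cons, map_mul]
            calc _ = (H q * W X (ps.getD k ([], [])).1 * (H q)⁻¹) *
                  (H q * W X (l.flatMap fun k => (ps.getD k ([], [])).1) * (H q)⁻¹) := by group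
              _ = _ := by
                rw [h3, h4]
                simp only [mul_assoc, (hι (τ (C.uIdx q k)) (W X (l.flatMap fun k => (ps.getD k ([], [])).2))).left_comm]
        have e1 := hconj r.1 fun k h => hk k (List.mem_append_left _ h)
        have e2 := hconj r.2 fun k h => hk k (List.mem_append_right _ h)
        rw [collectW_spec hι hHolds ea, collectW_spec hι hHolds eb] at e1
        rw [collectW_spec hι hHolds ea', collectW_spec hι hHolds eb'] at e2
        set V := H q * W X (toWord 0 va) * (H q)⁻¹ with hV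
        have pull : ∀ z : K, H q * (W X (toWord 0 va) * ι z) * (H q)⁻¹ = V * ι z := fun z => by
          rw [hV]
          simp only [mul_assoc]
          rw [(hι z (H q)⁻¹).eq]
        rw [pull] at e1 e2
        have key : ι (U τ fa) * ι (U τ fb' * U τ (r.2.map (C.uIdx q))) =
            ι (U τ fa') * ι (U τ fb * U τ (r.1.map (C.uIdx q))) := by
          have f1 : V = W X (toWord 0 vb) * ι (U τ fb * U τ (r.1.map (C.uIdx q)) * (U τ fa)⁻¹) := by
            rw [map_mul, map_mul, map_inv, ← mul_assoc, ← mul_assoc, ← e1, mul_inv_cancel_right]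
          have f2 : V = W X (toWord 0 vb) * ι (U τ fb' * U τ (r.2.map (C.uIdx q)) * (U τ fa')⁻¹) := by
            rw [map_mul, map_mul, map_inv, ← mul_assoc, ← mul_assoc, ← e2, mul_inv_cancel_right]
          have f3 := hιinj (mul_left_cancel (f1.symm.trans f2))
          rw [← map_mul, ← map_mul]
          refine congrArg ι ?_
          calc U τ fa * (U τ fb' * U τ (r.2.map (C.uIdx q))) =
              U τ fa * U τ fa' * (U τ fb' * U τ (r.2.map (C.uIdx q)) * (U τ fa')⁻¹) := by
                rw [mul_mul_mul_comm, mul_inv_cancel, mul_one]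
            _ = U τ fa' * U τ fa * (U τ fb * U τ (r.1.map (C.uIdx q)) * (U τ fa)⁻¹) := by
                rw [f3, mul_comm (U τ fa)]
            _ = _ := by rw [mul_mul_mul_comm, mul_inv_cancel, mul_one]
        simpa only [U_append, map_mul] using key
      next => cases e
  simp only [checkM, Bool.and_eq_true, hv.holdAll_eq, hv.hold_eq] at hC
  obtain ⟨-, hcomb, htor⟩ := hC
  let c : ℕ → K := fun i => U τ (C.shift.getD i [])
  let Y : ℕ → Γ := fun i => X i * ι (c i)
  have hc' : ∀ l, (l.map c).prod = U τ (C.shiftW l) := fun l => (U_flatMap τ _ l).symm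
  set R : K := ev (O.tot res) with hRdef
  have hes : ∀ cs : List ℕ, ev (O.comb cs ((eqsM C O m).filterMap id)) = 1 := fun cs =>
    hv.ev_comb _ _ fun f hf => heqs f (by simpa [List.mem_filterMap] using hf)
  have hRd : R ^ d = 1 := by
    have := hv.ev_isZero _ htor
    rwa [hv.ev_add, hv.ev_smul, hes, mul_one] at this
  let N : Subgroup Γ := (Subgroup.zpowers R).map ι
  haveI : N.Normal := ⟨by
    rintro _ ⟨z, hz, rfl⟩ y
    exact ⟨z, hz, by rw [← (hι z y).eq, mul_inv_cancel_right]⟩⟩
  have hNker : N ≤ σ.ker := by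
    rintro _ ⟨z, -, rfl⟩
    exact z.2
  let π := QuotientGroup.mk' N
  have hκ : ∀ z, z ∈ Subgroup.zpowers R → π (ι z) = 1 := fun z hz =>
    (QuotientGroup.eq_one_iff _).2 ⟨z, hz, rfl⟩
  have hrule : ∀ i j, i ≤ j → j < C.R.n → ev (ruleFormM C O m (i, j)) ∈ Subgroup.zpowers R := by
    intro i j hij hj
    have hmem : (i, j) ∈ C.rules := List.mem_flatMap.2 ⟨i, List.mem_range.2 (by omega),
      List.mem_map.2 ⟨j, List.mem_range'_1.2 ⟨hij, by omega⟩, rfl⟩⟩
    obtain ⟨k, hk, ek⟩ := List.getElem_of_mem hmem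
    have := hv.ev_isZero _ (List.all_eq_true.1 hcomb k (List.mem_range.2 hk))
    rw [hv.ev_add, hv.ev_add, List.getD_eq_getElem _ _ hk, ek, hes, mul_one, hv.ev_smul] at this
    rw [eq_inv_of_mul_eq_one_left this]
    exact inv_mem (pow_mem (Subgroup.mem_zpowers R) _)
  have hdiff' : ∀ a b, ev (diffM O m a b) ∈ Subgroup.zpowers R → π (ι (U τ a)) = π (ι (U τ b)) := by
    intro a b e
    have h2 : U τ b ^ (m - 1) * U τ b = 1 := by rw [← pow_succ, Nat.sub_add_cancel hm, hK]
    have h3 : U τ a = ev (diffM O m a b) * U τ b := by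
      rw [diffM, hv.ev_add, hv.ev_smul, hv.ev_tot, hv.ev_tot, mul_assoc, h2, mul_one]
    rw [h3, map_mul ι, map_mul π, hκ _ e, one_mul]
  let Z : ℕ → Γ ⧸ N := fun i => π (Y i)
  have hWZ : ∀ l, W Z l = π (W Y l) := fun l => (map_W π Y l).symm
  have hY1 : ∀ i < C.R.n, Z i ^ C.R.p = W Z (C.R.pwWord i) := by
    intro i hi
    have e := hrule i i le_rfl hi
    simp only [ruleFormM, if_true] at e
    have e := hdiff' _ _ e
    rw [U_cons, U_replicate] at e
    rw [hWZ]
    show π (X i * ι (c i)) ^ C.R.p = π (W (fun i => X i * ι (c i)) _)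
    rw [← map_pow, (hι (c i) (X i)).symm.mul_pow, hHolds.pow i hi, W_shift ι hι, hc', mul_assoc,
      ← map_pow ι, ← map_mul ι, map_mul π, map_mul π, e]
  have hY2 : ∀ i j, i < j → j < C.R.n → Z j * Z i = Z i * W Z (C.R.cjWord i j) := by
    intro i j hij hj
    have e := hrule i j hij.le hj
    simp only [ruleFormM, if_neg hij.ne] at e
    have e := hdiff' _ _ e
    rw [U_cons] at e
    rw [hWZ]
    show π (X j * ι (c j)) * π (X i * ι (c i)) = π (X i * ι (c i)) * π (W (fun i => X i * ι (c i)) _)
    rw [← map_mul, ← map_mul, W_shift ι hι, hc', (hι (c j) (X i)).mul_mul_mul_comm,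
      hHolds.conj i j hij hj, (hι (c i) (W X (C.R.cjWord i j))).mul_mul_mul_comm, mul_assoc,
      ← map_mul ι, ← map_mul ι, map_mul π, map_mul π, map_mul π, map_mul π]
    congr 1
    rw [map_mul π, ← e, ← map_mul π, ← map_mul ι]
    congr 2
    simp only [c]
    rw [mul_comm (U τ (C.shift.getD j [])) (U τ (C.shift.getD i [])), mul_left_comm]
  let σ' : Γ ⧸ N →* G := QuotientGroup.lift N σ hNker
  have hσ' : ∀ x, σ' (π x) = σ x := fun _ => rfl
  have hc2 : σ'.ker ≤ Subgroup.center (Γ ⧸ N) := by
    intro q hq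
    obtain ⟨z, rfl⟩ := QuotientGroup.mk'_surjective N q
    rw [Subgroup.mem_center_iff]
    intro y
    obtain ⟨y, rfl⟩ := QuotientGroup.mk'_surjective N y
    rw [← map_mul, ← map_mul, Subgroup.mem_center_iff.1 (hc hq) y]
  have hs2 : Function.Surjective σ' := fun y => by
    obtain ⟨x, rfl⟩ := hσ y
    exact ⟨π x, rfl⟩
  have hZimg : σ' '' (Z '' Set.Ico 0 C.R.n) = g '' Set.Ico 0 C.R.n := by
    rw [Set.image_image]
    refine Set.image_congr fun i _ => ?_
    show σ' (π (X i * ι (c i))) = g i
    rw [hσ', map_mul, hX, show σ (ι (c i)) = 1 from (c i).2, mul_one]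
  let P' : Sylow C.R.p (Γ ⧸ N) := P.mapSurjective (QuotientGroup.mk'_surjective N)
  have hbot := J3.Lift.split_of_card σ' hc2 hs2 (Subgroup.closure (Z '' Set.Ico 0 C.R.n))
    (by simpa using card_closure_le hp.pos hY1 hY2 hR.mem C.R.n le_rfl)
    (by
      rw [MonoidHom.map_closure, hZimg]
      simpa using le_card_closure hp hR C.R.n le_rfl) hN P'
  have hle : ⁅(P : Subgroup Γ), (P : Subgroup Γ)⁆ ⊓ σ.ker ≤ N := by
    rintro z ⟨hz, hzk⟩
    have h1 : π z ∈ ⁅(P' : Subgroup (Γ ⧸ N)), (P' : Subgroup (Γ ⧸ N))⁆ ⊓ σ'.ker := by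
      refine ⟨?_, hzk⟩
      rw [Sylow.coe_mapSurjective, ← Subgroup.map_commutator]
      exact ⟨z, hz, rfl⟩
    rw [hbot, Subgroup.mem_bot] at h1
    exact (QuotientGroup.eq_one_iff _).1 h1
  refine (Subgroup.card_le_of_le hle).trans ?_
  rw [Subgroup.card_map_of_injective hιinj, Nat.card_zpowers]
  exact orderOf_le_of_pow_eq_one hd hRd

/-- A stem extension kernel has order prime to `p ^ k` if the exponent `p ^ k` kernels meet the derived
groups of Sylow preimages in fewer elements. -/
theorem not_pow_dvd_ker {G : Type} [Group G] [Finite G] {p k d : ℕ} [Fact p.Prime] (hdk : d < p ^ k)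
    (h : ∀ (Γ : Type) [Group Γ] [Finite Γ] (σ : Γ →* G), σ.ker ≤ Subgroup.center Γ → Function.Surjective σ →
      (∀ z, σ z = 1 → z ^ p ^ k = 1) → ∀ P : Sylow p Γ,
      Nat.card ↥(⁅(P : Subgroup Γ), (P : Subgroup Γ)⁆ ⊓ σ.ker) ≤ d)
    {Γ : Type} [Group Γ] [Finite Γ] (σ : Γ →* G) (hc : σ.ker ≤ Subgroup.center Γ)
    (hsur : Function.Surjective σ) (hd : σ.ker ≤ commutator Γ) : ¬ p ^ k ∣ Nat.card σ.ker := by
  classical
  intro hdvd
  let f : σ.ker →* σ.ker :=
    { toFun := fun z => z ^ p ^ k
      map_one' := one_pow _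
      map_mul' := fun a b => Commute.mul_pow (Subtype.ext
        ((Subgroup.mem_center_iff.1 (hc b.2)) a.1)) _ }
  obtain ⟨A, hA⟩ := Sylow.exists_subgroup_card_pow_prime p (G := σ.ker) hdvd
  have hAf : A ≤ f.ker := fun a ha => by
    have := pow_card_eq_one' (x := (⟨a, ha⟩ : A))
    rw [hA] at this
    exact congrArg Subtype.val this
  let N : Subgroup Γ := f.range.map σ.ker.subtype
  haveI : N.Normal := ⟨by
    rintro _ ⟨z, hz, rfl⟩ y
    refine ⟨z, hz, ?_⟩
    rw [show σ.ker.subtype z = z.1 from rfl, (Subgroup.mem_center_iff.1 (hc z.2) y), mul_inv_cancel_right]⟩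
  have hNker : N ≤ σ.ker := Subgroup.map_subtype_le _
  let π := QuotientGroup.mk' N
  let τ : Γ ⧸ N →* G := QuotientGroup.lift N σ hNker
  have hτ : Function.Surjective τ := fun g => by
    obtain ⟨x, rfl⟩ := hsur g
    exact ⟨π x, rfl⟩
  have hker : τ.ker = σ.ker.map π := by
    ext q
    constructor
    · intro hq
      obtain ⟨z, rfl⟩ := QuotientGroup.mk'_surjective N q
      exact ⟨z, hq, rfl⟩
    · rintro ⟨z, hz, rfl⟩
      exact hz
  have hτc : τ.ker ≤ Subgroup.center (Γ ⧸ N) := by
    rw [hker]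
    rintro _ ⟨z, hz, rfl⟩
    rw [Subgroup.mem_center_iff]
    intro y
    obtain ⟨y, rfl⟩ := QuotientGroup.mk'_surjective N y
    rw [← map_mul, ← map_mul, Subgroup.mem_center_iff.1 (hc hz) y]
  have hτd : τ.ker ≤ commutator (Γ ⧸ N) := by
    rw [hker]
    refine (Subgroup.map_mono hd).trans ?_
    rw [commutator_def, Subgroup.map_commutator, Subgroup.map_top_of_surjective _
      (QuotientGroup.mk'_surjective N), commutator_def]
  have hτe : ∀ q, τ q = 1 → q ^ p ^ k = 1 := by
    intro q hq
    have hq' : q ∈ σ.ker.map π := hker ▸ hq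
    obtain ⟨z, hz, rfl⟩ := hq'
    rw [← map_pow]
    exact (QuotientGroup.eq_one_iff _).2 ⟨f ⟨z, hz⟩, ⟨_, rfl⟩, rfl⟩
  let P : Sylow p (Γ ⧸ N) := default
  have hin : τ.ker ≤ ⁅(P : Subgroup (Γ ⧸ N)), (P : Subgroup (Γ ⧸ N))⁆ ⊓ τ.ker := by
    refine le_inf (fun q hq => ?_) le_rfl
    haveI : τ.ker.Normal := inferInstance
    have hP : IsPGroup p τ.ker := fun x => ⟨k, Subtype.ext (hτe x.1 x.2)⟩
    have hqP := hP.le_sylow_of_normal P hq
    have := Cfsg.Agent.SimpleFacts.SLTwoMultiplier.mem_commutator_sylow P (hτc hq) (hτd hq) hqP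
    rw [← Subgroup.map_subtype_commutator (P : Subgroup (Γ ⧸ N))]
    exact ⟨_, this, rfl⟩
  have hcard : Nat.card τ.ker ≤ d :=
    (Subgroup.card_le_of_le hin).trans (h (Γ ⧸ N) τ hτc hτ hτe P)
  let θ : σ.ker →* Γ ⧸ N := π.comp σ.ker.subtype
  have hθr : θ.range = τ.ker := by
    rw [hker, MonoidHom.range_eq_map, ← Subgroup.map_map, ← MonoidHom.range_eq_map, Subgroup.range_subtype]
  have hθk : θ.ker = f.range := by
    ext z
    rw [MonoidHom.mem_ker]
    show π z.1 = 1 ↔ _
    rw [show π z.1 = (z.1 : Γ ⧸ N) from rfl, QuotientGroup.eq_one_iff]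
    exact Subgroup.mem_map_iff_mem (f := σ.ker.subtype) Subtype.val_injective
  have h1 := Subgroup.index_mul_card θ.ker
  have h2 := Subgroup.index_mul_card f.ker
  rw [Subgroup.index_ker, hθr, hθk] at h1
  rw [Subgroup.index_ker] at h2
  have h3 : p ^ k ≤ Nat.card f.ker := hA ▸ Subgroup.card_le_of_le hAf
  have h4 : 0 < Nat.card f.range := Nat.card_pos
  have : Nat.card τ.ker = Nat.card f.ker := by
    refine Nat.eq_of_mul_eq_mul_right h4 ?_
    rw [h1, mul_comm, h2]
  omega

end Cfsg.Agent.Lib.PcMult
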